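import Groth.Agent.AmpleX.Coprod
import Groth.Prelude.Def_RelProj

/-!
# Disjoint unions of quasi-projective morphisms
-/

universe u

open CategoryTheory CategoryTheory.Limits AlgebraicGeometry TopologicalSpace Opposite

set_option backward.isDefEq.respectTransparency false
set_option backward.isDefEq.respectTransparency.types false
set_option linter.style.haveILetI false

namespace Groth.Agent.CoprodQP

open Groth.Agent

variable {A B P : Scheme.{u}}

theorem isZero_restrict_pushforward (i : A ⟶ P) (i' : B ⟶ P) [IsOpenImmersion i] [IsOpenImmersion i']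
    (hd : i.opensRange ⊓ i'.opensRange = ⊥) (M : B.Modules) :
    IsZero (((Scheme.Modules.pushforward i').obj M).restrict i) := by
  rw [IsZero.iff_id_eq_zero]
  refine Scheme.Modules.hom_ext _ _ fun U => ?_
  ext x
  have hU : i' ⁻¹ᵁ (i ''ᵁ U) = ⊥ := by
    refine Opens.ext (Set.eq_empty_iff_forall_notMem.2 fun b hb => ?_)
    have : i' b ∈ i.opensRange ⊓ i'.opensRange := ⟨i.image_le_opensRange U hb, ⟨b, rfl⟩⟩
    rw [hd] at this
    exact this
  haveI : Subsingleton Γ(M, i' ⁻¹ᵁ (i ''ᵁ U)) := by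
    rw [hU]
    refine ⟨fun s t => TopCat.Sheaf.eq_of_locally_eq' ⟨M.presheaf, M.isSheaf⟩ (fun k : Empty => k.elim) ⊥
      (fun k => k.elim) bot_le _ _ fun k => k.elim⟩
  exact Subsingleton.elim (α := Γ(M, i' ⁻¹ᵁ (i ''ᵁ U))) _ _

/-- Gluing modules on the two halves of a disjoint union. -/
theorem exists_glue (i : A ⟶ P) (i' : B ⟶ P) [IsOpenImmersion i] [IsOpenImmersion i']
    (hd : i.opensRange ⊓ i'.opensRange = ⊥) (L : A.Modules) (L' : B.Modules) :
    ∃ M : P.Modules, Nonempty ((Scheme.Modules.pullback i).obj M ≅ L) ∧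
      Nonempty ((Scheme.Modules.pullback i').obj M ≅ L') := by
  let a := (Scheme.Modules.pushforward i).obj L
  let b := (Scheme.Modules.pushforward i').obj L'
  let M := a ⊞ b
  haveI : PreservesBinaryBiproducts (Scheme.Modules.restrictFunctor i) := preservesBinaryBiproducts_of_preservesBiproducts _
  haveI : PreservesBinaryBiproducts (Scheme.Modules.restrictFunctor i') := preservesBinaryBiproducts_of_preservesBiproducts _
  refine ⟨M, ⟨?_⟩, ⟨?_⟩⟩
  · exact ((Scheme.Modules.restrictFunctorIsoPullback i).app M).symm ≪≫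
      (Scheme.Modules.restrictFunctor i).mapBiprod a b ≪≫
      (isoBiprodZero (isZero_restrict_pushforward i i' hd L')).symm ≪≫
      (Scheme.Modules.restrictFunctorAdjCounitIso i).app L
  · exact ((Scheme.Modules.restrictFunctorIsoPullback i').app M).symm ≪≫
      (Scheme.Modules.restrictFunctor i').mapBiprod a b ≪≫
      (isoZeroBiprod (isZero_restrict_pushforward i' i (by rw [inf_comm]; exact hd) L)).symm ≪≫
      (Scheme.Modules.restrictFunctorAdjCounitIso i').app L'

theorem isQuasiProjective_coprod {X X' Y : Scheme.{u}} (f : X ⟶ Y) (f' : X' ⟶ Y)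
    (hf : RelProj.IsQuasiProjective f) (hf' : RelProj.IsQuasiProjective f') :
    RelProj.IsQuasiProjective (coprod.desc f f') := by
  obtain ⟨hlf, hqc, L, hL⟩ := hf
  obtain ⟨hlf', hqc', L', hL'⟩ := hf'
  have hc := isCompl_range_inl_inr X X'
  obtain ⟨M, ⟨e⟩, ⟨e'⟩⟩ := exists_glue (coprod.inl : X ⟶ X ⨿ X') coprod.inr (Opens.ext hc.disjoint.inter_eq) L L'
  have hM : RelAmple.IsRelAmple (coprod.desc f f') M := by
    rw [AmpleX.isRelAmple_coprod_iff]
    refine ⟨⟨hL.1, fun V => AmpleX.isAmple_of_iso ?_ (hL.2 V)⟩, ⟨hL'.1, fun V => AmpleX.isAmple_of_iso ?_ (hL'.2 V)⟩⟩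
    · exact (Scheme.Modules.restrictFunctor _).mapIso e.symm
    · exact (Scheme.Modules.restrictFunctor _).mapIso e'.symm
  refine ⟨?_, hM.1, M, hM⟩
  have := IsZariskiLocalAtSource.of_openCover (P := @LocallyOfFiniteType)
    (coprodOpenCover.{u, u} X X') (f := coprod.desc f f') (by
      rintro (⟨⟨⟩⟩ | ⟨⟨⟩⟩)
      · show LocallyOfFiniteType (coprod.inl ≫ coprod.desc f f')
        rw [coprod.inl_desc]; exact hlf
      · show LocallyOfFiniteType (coprod.inr ≫ coprod.desc f f')
        rw [coprod.inr_desc]; exact hlf')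
  exact this

end Groth.Agent.CoprodQP
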